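import Cfsg.Agent.CyclicZFactor.Rank3.Kill
import Cfsg.Agent.PGroups.Bicyclic.Forward
import Cfsg.Agent.SolvStruct.CyclicProduct

/-!
An elementary abelian subgroup of order eight in the Sylow 2-subgroup of `N` gives that shape.
-/

set_option autoImplicit false
set_option linter.unusedSectionVars false
set_option linter.style.haveILetI false

namespace Cfsg.Lib.CyclicZFactor

open Subgroup
open scoped commutatorElement

universe u

variable {G : Type u} [Group G] [Finite G] {N A B : Subgroup G}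

namespace Sys

variable (Y : Sys N A B)

/-- the two generators as a bicyclic group -/
theorem bicyclic_gen : Bicyclic.Gen (⟨Y.a, Y.aS⟩ : ↥(Y.S : Subgroup G)) ⟨Y.b, Y.bS⟩ := fun g => by
  obtain ⟨i, j, h⟩ := Y.gen g g.2
  exact ⟨i, j, Subtype.ext (by simpa using h)⟩

/-- the exponent of membership in `N` for a further generator -/
theorem mem_iff_of_decomp {x l : G} (hl : l ∈ N) {j : ℤ} (hj : Odd j) (hx : x = l * Y.b ^ j) (m : ℤ) :
    x ^ m ∈ N ↔ (Y.e : ℤ) ∣ m := by
  haveI := Y.fac.normal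
  rw [← QuotientGroup.eq_one_iff, ← QuotientGroup.mk'_apply, map_zpow,
    show QuotientGroup.mk' N x = QuotientGroup.mk' N Y.b ^ j by
      rw [hx, map_mul, map_zpow, show QuotientGroup.mk' N l = 1 from (QuotientGroup.eq_one_iff l).2 hl, one_mul],
    ← zpow_mul, ← orderOf_dvd_iff_zpow_eq_one]
  show (Y.e : ℤ) ∣ j * m ↔ _
  obtain ⟨r, hr⟩ := Y.exists_e_pow
  have hco : IsCoprime (Y.e : ℤ) j := by
    rw [hr]; push_cast
    refine IsCoprime.pow_left ?_
    obtain ⟨d, hd⟩ := hj
    exact ⟨-d, 1, by rw [hd]; ring⟩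
  exact ⟨hco.dvd_of_dvd_mul_left, fun h => h.mul_left j⟩

/-- **No elementary abelian subgroup of order eight in `L`.** -/
theorem rank_le_two (E : Subgroup G) (hEL : E ≤ Y.L) (hsq : ∀ g ∈ E, g ^ 2 = 1) : Nat.card E ≤ 4 := by
  haveI : Fact (Nat.Prime 2) := ⟨Nat.prime_two⟩
  by_contra hbig
  haveI := Y.fac.normal
  set ET : Subgroup ↥(Y.S : Subgroup G) := E.subgroupOf (Y.S : Subgroup G) with hET
  have hEcard : Nat.card ET = Nat.card E :=
    Nat.card_congr (subgroupOfEquivOfLe (fun g hg => (hEL hg).1)).toEquiv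
  have hsqT : ∀ g ∈ ET, g ^ 2 = 1 := fun g hg => Subtype.ext (by simpa using hsq _ hg)
  let H : Bicyclic.Hyp ↥(Y.S : Subgroup G) :=
    { x := ⟨Y.a, Y.aS⟩
      y := ⟨Y.b, Y.bS⟩
      gen := Y.bicyclic_gen
      two := Y.S.2
      nm := fun hm => hbig (hEcard ▸ Bicyclic.meta_card_le_four (PGroups.MetaOmega.meta_subgroup ET hm)
        fun g => Subtype.ext (hsqT g g.2)) }
  -- the sign on the Sylow group
  let εT : ↥(Y.S : Subgroup G) →* ℤˣ := Y.ε.comp (Y.S : Subgroup G).subtype
  have hεΦ : ∀ g ∈ frattini ↥(Y.S : Subgroup G), εT g = 1 := fun g hg => by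
    refine (closure_le (K := εT.ker)).2 ?_ (H.frattini_le_closure hg)
    rintro _ ⟨s, rfl⟩
    show εT (s ^ 2) = 1
    rw [map_pow]
    simp
  have hnotΦ : ∀ {g : ↥(Y.S : Subgroup G)}, εT g = -1 → g ∉ frattini _ := fun h hg => by
    rw [hεΦ _ hg] at h
    exact absurd h (by decide)
  obtain ⟨wT, hwE, hwΦ⟩ : ∃ w ∈ ET, w ∉ frattini ↥(Y.S : Subgroup G) := by
    by_contra! hno
    exact hbig (hEcard ▸ Y.bicyclic_gen.card_le_four Y.S.2 hno hsqT)
  have hεw : εT wT = 1 := Y.εN _ (hEL hwE).2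
  set bT : ↥(Y.S : Subgroup G) := ⟨Y.b, Y.bS⟩
  have hεb : εT bT = -1 := Y.εb
  have hgen : ∀ {x : ↥(Y.S : Subgroup G)}, εT x = -1 → closure ({x, wT} : Set ↥(Y.S : Subgroup G)) = ⊤ :=
    fun {x} hx => H.gen_of (hnotΦ hx) hwΦ (hnotΦ (by rw [map_mul, hx, hεw, mul_one]))
  have hcyc : IsCyclic (commutator ↥(Y.S : Subgroup G)) :=
    Bicyclic.isCyclic_of_noninner (F := Cfsg.groupFusionSystem (Y.S : Subgroup G)) H
      (Fusion.saturated_group Y.S) Y.not_inner
  set zT := ⁅bT, wT⁆ with hzT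
  have hzcom : zT ∈ commutator ↥(Y.S : Subgroup G) := by
    rw [_root_.commutator_def]; exact commutator_mem_commutator (mem_top _) (mem_top _)
  haveI hZn : (zpowers zT).Normal := ⟨by
    intro s hs g
    obtain ⟨i, rfl⟩ := mem_zpowers_iff.1 hs
    rw [← conj_zpow]
    refine zpow_mem ?_ i
    have h2 : g * zT * g⁻¹ ∈ commutator ↥(Y.S : Subgroup G) :=
      (inferInstance : (commutator ↥(Y.S : Subgroup G)).Normal).conj_mem _ hzcom g
    haveI := hcyc
    rw [SolvStruct.CyclicProduct.eq_of_card_eq_of_isCyclic (zpowers_le.2 hzcom) (zpowers_le.2 h2)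
      (by rw [Nat.card_zpowers, Nat.card_zpowers, ← MulAut.conj_apply, MulEquiv.orderOf_eq])]
    exact mem_zpowers _⟩
  have hcomle : commutator ↥(Y.S : Subgroup G) ≤ zpowers zT :=
    Bicyclic.commutator_le_of_gen (hgen hεb) _ (mem_zpowers _)
  have hder : commutator ↥(Y.S : Subgroup G) = zpowers zT := le_antisymm hcomle (zpowers_le.2 hzcom)
  have hz1 : zT ≠ 1 := fun h => H.nm (Bicyclic.meta_of (hgen hεb)
    (hcomle.trans (by rw [h, zpowers_one_eq_bot]; exact bot_le)))
  obtain ⟨k', hk'⟩ := IsPGroup.iff_orderOf.1 Y.S.2 zT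
  obtain ⟨k, rfl⟩ : ∃ k, k' = k + 1 :=
    ⟨k' - 1, by rcases k' with _ | k'; · exact absurd (orderOf_eq_one_iff.1 (by simpa using hk')) hz1
                · omega⟩
  have hεz : εT zT = 1 := hεΦ _ (H.commutator_le_phi hzcom)
  have hw2 : wT * wT = 1 := by rw [← pow_two]; exact hsqT _ hwE
  have hwinv : wT⁻¹ = wT := inv_eq_of_mul_eq_one_left hw2
  have hwz : wT * zT * wT⁻¹ = zT⁻¹ := by
    rw [hzT, commutatorElement_def, hwinv]
    calc wT * (bT * wT * bT⁻¹ * wT) * wT = wT * bT * wT * bT⁻¹ * (wT * wT) := by group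
      _ = (bT * wT⁻¹ * bT⁻¹ * wT⁻¹)⁻¹ := by rw [hw2, hwinv]; simp [hwinv]; group
      _ = _ := by rw [hwinv]
  have hwnz : wT ∉ zpowers zT := fun h => hwΦ (H.commutator_le_phi (hder ▸ h))
  have hz0 : ∀ {s : ↥(Y.S : Subgroup G)}, s ∈ zpowers zT → s * s = 1 → s = 1 ∨ s = zT ^ 2 ^ k := by
    intro s hs h
    obtain ⟨i, rfl⟩ := mem_zpowers_iff.1 hs
    rw [← zpow_add, ← orderOf_dvd_iff_zpow_eq_one, hk', pow_succ, Nat.cast_mul, ← two_mul, mul_comm (2 : ℤ),
      show ((2 : ℕ) : ℤ) = 2 from rfl] at h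
    obtain ⟨c, rfl⟩ : ((2 ^ k : ℕ) : ℤ) ∣ i := Int.dvd_of_mul_dvd_mul_right two_ne_zero h
    rcases Int.even_or_odd c with ⟨d, rfl⟩ | ⟨d, rfl⟩
    · exact Or.inl (orderOf_dvd_iff_zpow_eq_one.1 ⟨d, by rw [hk', pow_succ]; push_cast; ring⟩)
    · refine Or.inr ?_
      rw [mul_add, mul_one, zpow_add, zpow_natCast,
        orderOf_dvd_iff_zpow_eq_one.1 ⟨d, by rw [hk', pow_succ]; push_cast; ring⟩, one_mul]
  have hzeq : zT ^ 2 ^ k ≠ 1 := fun h => by
    have := orderOf_dvd_of_pow_eq_one h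
    rw [hk', Nat.pow_dvd_pow_iff_le_right one_lt_two] at this
    omega
  set z0 : G := ((zT ^ 2 ^ k : ↥(Y.S : Subgroup G)) : G) with hz0d
  have hz0' : z0 = ((zT : G)) ^ 2 ^ k := by rw [hz0d, SubgroupClass.coe_pow]
  -- the kill for a generator `x` with no power in `D`
  have key : ∀ (x : G) (hx : x ∈ (Y.S : Subgroup G)) (l : G) (j : ℤ), l ∈ N → Odd j → x = l * Y.b ^ j →
      z0 ∉ zpowers x → ¬ IsConj (x ^ (orderOf x / 2)) z0 → False := by
    intro x hx l j hl hj hxd hdis hnf
    set xT : ↥(Y.S : Subgroup G) := ⟨x, hx⟩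
    have hεx : εT xT = -1 := by
      show Y.ε x = -1
      rw [hxd, map_mul, map_zpow, Y.εN l hl, Y.εb, one_mul, hj.neg_one_zpow]
    obtain ⟨r, hr⟩ := IsPGroup.iff_orderOf.1 Y.S.2 xT
    rw [Subgroup.orderOf_mk] at hr
    obtain ⟨v, hv⟩ := mem_zpowers_iff.1 (hZn.conj_mem _ (mem_zpowers zT) xT)
    have hcxw : ⁅xT, wT⁆ ∈ commutator ↥(Y.S : Subgroup G) := by
      rw [_root_.commutator_def]; exact commutator_mem_commutator (mem_top _) (mem_top _)
    obtain ⟨q, hq⟩ := mem_zpowers_iff.1 (hder ▸ hcxw : ⁅xT, wT⁆ ∈ zpowers zT)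
    have hxw : xT * wT * xT⁻¹ = zT ^ q * wT := by
      rw [hq, commutatorElement_def, inv_mul_cancel_right]
    have hvo : Odd v := by
      rw [← Int.not_even_iff_odd]
      rintro ⟨d, rfl⟩
      have h1 : (xT * zT * xT⁻¹) ^ 2 ^ k = 1 := by
        rw [← hv, ← zpow_natCast, ← zpow_mul, ← orderOf_dvd_iff_zpow_eq_one, hk']
        exact ⟨d, by push_cast; ring⟩
      rw [conj_pow, conj_eq_one_iff] at h1
      exact hzeq h1
    have hqo : Odd q := by
      rw [← Int.not_even_iff_odd]
      rintro ⟨d, rfl⟩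
      set x' := zT ^ (-d) * xT
      have hεx' : εT x' = -1 := by rw [map_mul, map_zpow, hεz, one_zpow, one_mul, hεx]
      have hconjw : wT * zT ^ d = zT ^ (-d) * wT := by
        rw [zpow_neg, ← inv_zpow, ← hwz, conj_zpow, inv_mul_cancel_right]
      have hc : ⁅x', wT⁆ ∈ (⊥ : Subgroup ↥(Y.S : Subgroup G)) := by
        rw [mem_bot, commutatorElement_def]
        calc x' * wT * x'⁻¹ * wT⁻¹ = zT ^ (-d) * (xT * wT * xT⁻¹) * zT ^ d * wT⁻¹ := by
              simp only [x']; group
          _ = zT ^ d * (wT * zT ^ d) * wT⁻¹ := by rw [hxw]; group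
          _ = 1 := by rw [hconjw]; group
      exact hz1 (mem_bot.1 (Bicyclic.commutator_le_of_gen (hgen hεx') ⊥ hc hzcom))
    have hgenx : ∀ s : ↥(Y.S : Subgroup G), ∃ m i δ : ℤ, s = xT ^ m * zT ^ i * wT ^ δ := by
      intro s
      set π := QuotientGroup.mk' (zpowers zT)
      have hcm : Commute (π xT) (π wT) := by
        refine commutatorElement_eq_one_iff_mul_comm.1 ?_
        rw [← map_commutatorElement]
        exact (QuotientGroup.eq_one_iff _).2 (hder ▸ hcxw)
      have : ∀ t ∈ closure ({xT, wT} : Set ↥(Y.S : Subgroup G)), ∃ m δ : ℤ, π t = π xT ^ m * π wT ^ δ := by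
        intro t ht
        induction ht using closure_induction with
        | mem t ht =>
          rcases ht with rfl | rfl
          · exact ⟨1, 0, by simp⟩
          · exact ⟨0, 1, by simp⟩
        | one => exact ⟨0, 0, by simp⟩
        | mul t t' _ _ e e' =>
          obtain ⟨m, δ, h⟩ := e
          obtain ⟨m', δ', h'⟩ := e'
          refine ⟨m + m', δ + δ', ?_⟩
          rw [map_mul, h, h', zpow_add, zpow_add, mul_assoc, ← mul_assoc (π wT ^ δ),
            ((hcm.zpow_zpow m' δ).symm).eq]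
          group
        | inv t _ e =>
          obtain ⟨m, δ, h⟩ := e
          refine ⟨-m, -δ, ?_⟩
          rw [map_inv, h, mul_inv_rev, zpow_neg, zpow_neg, ((hcm.zpow_zpow m δ).inv_inv).symm.eq]
      obtain ⟨m, δ, h⟩ := this s (hgen hεx ▸ mem_top s)
      rw [← map_zpow, ← map_zpow, ← map_mul] at h
      obtain ⟨i, hi⟩ := mem_zpowers_iff.1 (QuotientGroup.eq.1 h.symm)
      obtain ⟨i', hi'⟩ := mem_zpowers_iff.1
        (hZn.conj_mem _ (zpow_mem (mem_zpowers zT) i) (wT ^ δ))
      refine ⟨m, i', δ, ?_⟩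
      rw [hi', hi]
      group
    have hdisj : ∀ m i δ : ℤ, xT ^ m = zT ^ i * wT ^ δ → xT ^ m = 1 := by
      intro m i δ h
      rcases Int.even_or_odd' δ with ⟨d, rfl | rfl⟩
      · rw [zpow_mul, zpow_ofNat, pow_two, hw2, one_zpow, mul_one] at h
        by_contra hne
        obtain ⟨c, hc⟩ := IsPGroup.iff_orderOf.1 Y.S.2 (xT ^ m)
        rcases c with _ | c
        · exact hne (orderOf_eq_one_iff.1 (by simpa using hc))
        have hs : ((xT ^ m) ^ 2 ^ c) * ((xT ^ m) ^ 2 ^ c) = 1 := by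
          rw [← pow_add, ← two_mul, ← pow_succ', ← hc, pow_orderOf_eq_one]
        rcases hz0 (h ▸ pow_mem (zpow_mem (mem_zpowers zT) i) _) hs with e | e
        · have := orderOf_dvd_of_pow_eq_one e
          rw [hc, Nat.pow_dvd_pow_iff_le_right one_lt_two] at this
          omega
        · refine hdis ?_
          rw [hz0d, ← e]
          exact pow_mem (zpow_mem (mem_zpowers x) m) _
      · rw [zpow_add, zpow_mul, zpow_ofNat, pow_two, hw2, one_zpow, one_mul, zpow_one] at h
        exfalso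
        have h1 : xT * (zT ^ i * wT) * xT⁻¹ = zT ^ i * wT := by
          rw [← h, ((Commute.refl xT).zpow_right m).eq, mul_inv_cancel_right]
        have h2 : zT ^ (v * i + q) * wT = zT ^ i * wT := by
          rw [← h1]
          calc zT ^ (v * i + q) * wT = (zT ^ v) ^ i * (zT ^ q * wT) := by
                rw [← zpow_mul, ← mul_assoc, ← zpow_add]
            _ = (xT * zT * xT⁻¹) ^ i * (xT * wT * xT⁻¹) := by rw [hv, hxw]
            _ = _ := by rw [conj_zpow]; group
        have h3 := mul_right_cancel h2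
        rw [zpow_eq_zpow_iff_modEq, hk', Int.modEq_iff_dvd] at h3
        have h4 : (2 : ℤ) ∣ i - (v * i + q) :=
          (dvd_pow_self (2 : ℤ) (Nat.succ_ne_zero k)).trans (by exact_mod_cast h3)
        obtain ⟨a', ha'⟩ := hvo
        obtain ⟨b', hb'⟩ := hqo
        rw [ha', hb', show i - ((2 * a' + 1) * i + (2 * b' + 1)) = 2 * (-a' * i - b') + (-1) by ring,
          Int.dvd_add_right (dvd_mul_right 2 _)] at h4
        norm_num at h4
    have hmem := Y.mem_iff_of_decomp hl hj hxd
    have hediv : Y.e ∣ 2 ^ r := by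
      rw [← hr, ← Int.natCast_dvd_natCast]
      refine (hmem _).1 ?_
      rw [zpow_natCast, pow_orderOf_eq_one]
      exact one_mem _
    have h2e : 2 * Y.e ∣ 2 ^ r := by
      obtain ⟨s, hs⟩ := Y.exists_e_pow
      rw [hs, Nat.pow_dvd_pow_iff_le_right one_lt_two] at hediv
      rw [hs, ← pow_succ', Nat.pow_dvd_pow_iff_le_right one_lt_two]
      by_contra hlt
      have hse : s = r := by omega
      -- then `L ⊆ D`
      have hD : ∀ g ∈ ET, g ∈ zpowers zT ∨ g * wT ∈ zpowers zT := by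
        intro g hg
        obtain ⟨m, i, δ, hmid⟩ := hgenx g
        have hgN : (g : G) ∈ N := (hEL hg).2
        have hxm : x ^ m ∈ N := by
          have hw' : (wT : G) ∈ N := (hEL hwE).2
          have hzN : (zT : G) ∈ N := by
            have : (zT : G) = Y.b * wT * Y.b⁻¹ * (wT : G)⁻¹ := by simp [hzT, commutatorElement_def, bT]
            rw [this]
            exact mul_mem (Y.fac.normal.conj_mem _ hw' _) (inv_mem hw')
          have e1 : (g : G) = x ^ m * (zT : G) ^ i * (wT : G) ^ δ := by rw [hmid]; simp [xT]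
          have := mul_mem (mul_mem hgN (zpow_mem hw' (-δ))) (zpow_mem hzN (-i))
          rw [e1] at this
          simpa [mul_assoc] using this
        rw [hmem, hs, hse, ← hr] at hxm
        have hx1 : xT ^ m = 1 := Subtype.ext (by simpa [xT] using orderOf_dvd_iff_zpow_eq_one.1 hxm)
        rw [hx1, one_mul] at hmid
        rcases Int.even_or_odd' δ with ⟨d, rfl | rfl⟩
        · rw [zpow_mul, zpow_ofNat, pow_two, hw2, one_zpow, mul_one] at hmid
          exact Or.inl (hmid ▸ zpow_mem (mem_zpowers _) i)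
        · rw [zpow_add, zpow_mul, zpow_ofNat, pow_two, hw2, one_zpow, one_mul, zpow_one] at hmid
          refine Or.inr ?_
          rw [hmid, mul_assoc, hw2, mul_one]
          exact zpow_mem (mem_zpowers _) i
      classical
      have hsub : ∀ g ∈ ET, g ∈ ({1, zT ^ 2 ^ k, wT, zT ^ 2 ^ k * wT} : Finset ↥(Y.S : Subgroup G)) := by
        intro g hg
        simp only [Finset.mem_insert, Finset.mem_singleton]
        rcases hD g hg with h | h
        · rcases hz0 h (by rw [← pow_two]; exact hsqT g hg) with e | e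
          · exact Or.inl e
          · exact Or.inr (Or.inl e)
        · rcases hz0 h (by rw [← pow_two]; exact hsqT _ (mul_mem hg hwE)) with e | e
          · exact Or.inr (Or.inr (Or.inl ((eq_inv_of_mul_eq_one_left e).trans hwinv)))
          · exact Or.inr (Or.inr (Or.inr (by rw [← e, mul_assoc, hw2, mul_one])))
      refine hbig ?_
      rw [← hEcard]
      refine (Nat.card_le_card_of_injective (fun g : ET =>
        (⟨g.1, hsub g.1 g.2⟩ : ({1, zT ^ 2 ^ k, wT, zT ^ 2 ^ k * wT} : Finset ↥(Y.S : Subgroup G))))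
        fun g g' h => Subtype.ext (Subtype.mk.inj h)).trans ?_
      rw [Nat.card_eq_finsetCard]
      exact Finset.card_le_four
    have hzN : (zT : G) ∈ N := by
      have : (zT : G) = Y.b * wT * Y.b⁻¹ * (wT : G)⁻¹ := by simp [hzT, commutatorElement_def, bT]
      rw [this]
      exact mul_mem (Y.fac.normal.conj_mem _ (hEL hwE).2 _) (inv_mem (hEL hwE).2)
    refine R3.contra (Y := Y)
      { z := zT, w := wT, x := x, k := k, r := r, v := v, q := q
        hz := by rw [Subgroup.orderOf_coe, hk']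
        hx := hr
        hzL := ⟨zT.2, hzN⟩
        hwL := hEL hwE
        hxS := hx
        hw2 := by simpa using congrArg Subtype.val hw2
        hwnz := fun h => hwnz (by
          obtain ⟨i, hi⟩ := mem_zpowers_iff.1 h
          exact mem_zpowers_iff.2 ⟨i, Subtype.ext (by simpa using hi)⟩)
        hwz := by simpa using congrArg Subtype.val hwz
        hv := hvo
        hq := hqo
        hxz := by simpa [xT] using congrArg Subtype.val hv.symm
        hxw := by simpa [xT] using congrArg Subtype.val hxw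
        gen := fun s hs => by
          obtain ⟨m, i, δ, h⟩ := hgenx ⟨s, hs⟩
          exact ⟨m, i, δ, by simpa [xT] using congrArg Subtype.val h⟩
        disj := fun m i δ h => by
          simpa [xT] using congrArg Subtype.val (hdisj m i δ (Subtype.ext (by simpa [xT] using h)))
        mem_iff := hmem
        two_e := h2e
        der := fun g hg => ?_
        nfus := by rw [← hr, ← hz0']; exact hnf }
    -- the normalizer of the Sylow group
    let φ : MulAut ↥(Y.S : Subgroup G) :=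
      MonoidHom.toMulEquiv
        (MonoidHom.mk' (fun s => ⟨g * s * g⁻¹, (mem_normalizer_iff.1 hg _).1 s.2⟩)
          fun s t => Subtype.ext (by simp))
        (MonoidHom.mk' (fun s => ⟨g⁻¹ * s * g, (mem_normalizer_iff''.1 hg _).1 s.2⟩)
          fun s t => Subtype.ext (by simp [mul_assoc]))
        (MonoidHom.ext fun s => Subtype.ext (by simp [mul_assoc]))
        (MonoidHom.ext fun s => Subtype.ext (by simp [mul_assoc]))
    have h1 : φ zT ∈ zpowers zT := by
      rw [← hder]
      have h2 : (commutator ↥(Y.S : Subgroup G)).map φ.toMonoidHom ≤ commutator ↥(Y.S : Subgroup G) := by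
        rw [_root_.commutator_def, map_commutator]
        exact commutator_mono le_top le_top
      exact h2 (mem_map_of_mem _ hzcom)
    obtain ⟨i, hi⟩ := mem_zpowers_iff.1 h1
    exact mem_zpowers_iff.2 ⟨i, by
      have := congrArg Subtype.val hi
      rw [SubgroupClass.coe_zpow] at this
      exact this⟩
  -- choose the generator
  obtain ⟨la, hla, ja, hja, hda⟩ := Y.a_decomp
  have hb' : Y.b = (1 : G) * Y.b ^ (1 : ℤ) := by rw [one_mul, zpow_one]
  have hhalf : ∀ {x : G}, x ≠ 1 → x ∈ (Y.S : Subgroup G) → x ^ (orderOf x / 2) ≠ 1 := by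
    intro x hx hxS h
    have h1 := orderOf_dvd_of_pow_eq_one h
    obtain ⟨c, hc⟩ := IsPGroup.iff_orderOf.1 Y.S.2 ⟨x, hxS⟩
    rw [Subgroup.orderOf_mk] at hc
    rcases c with _ | c
    · exact hx (orderOf_eq_one_iff.1 (by simpa using hc))
    · rw [hc, pow_succ, Nat.mul_div_cancel _ two_pos] at h1
      have := Nat.le_of_dvd (Nat.two_pow_pos c) h1
      have := Nat.two_pow_pos c
      omega
  have hne1 : ∀ {x : G}, Y.ε x = -1 → x ≠ 1 := fun h e => by
    rw [e, map_one] at h
    exact absurd h (by decide)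
  have hz01 : z0 ≠ 1 := fun h => hzeq (Subtype.ext (by rw [← hz0d, h]; rfl))
  have hav : Y.a ^ (orderOf Y.a / 2) ≠ 1 := hhalf (hne1 Y.εa) Y.aS
  have hbu : Y.b ^ (orderOf Y.b / 2) ≠ 1 := hhalf (hne1 Y.εb) Y.bS
  by_cases hzb : z0 ∈ zpowers Y.b
  · refine key Y.a Y.aS la ja hla.2 hja hda (fun h => hz01 ?_) ?_
    · exact Y.fac.eq_one_of_mem (zpowers_le.2 Y.aA h) (zpowers_le.2 Y.bB hzb)
    · exact Y.fac.not_conj (pow_mem Y.aA _) hav (zpowers_le.2 Y.bB hzb)
  by_cases hza : z0 ∈ zpowers Y.a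
  · exact key Y.b Y.bS 1 1 (one_mem _) odd_one hb' hzb
      fun h => Y.fac.not_conj (zpowers_le.2 Y.aA hza) hz01 (pow_mem Y.bB _) h.symm
  by_cases hva : IsConj (Y.a ^ (orderOf Y.a / 2)) z0
  · exact key Y.b Y.bS 1 1 (one_mem _) odd_one hb' hzb
      fun h => Y.fac.not_conj (pow_mem Y.aA _) hav (pow_mem Y.bB _) (hva.trans h.symm)
  · exact key Y.a Y.aS la ja hla.2 hja hda hza hva

end Sys

end Cfsg.Lib.CyclicZFactor
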