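import Cfsg.Agent.CyclicZFactor.Tools
import Cfsg.Agent.Transfer.Fusion

/-!
The Sylow group `⟨x⟩ ⋉ D` with `D` dihedral and the involution of `⟨x⟩` inside `N` but not fused
to the central involution of `D`: impossible in a simple group.
-/

set_option autoImplicit false
set_option linter.unusedSectionVars false
set_option linter.style.haveILetI false

namespace Cfsg.Lib.CyclicZFactor

open Subgroup

universe u

variable {G : Type u} [Group G] [Finite G] {N A B : Subgroup G}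

/-- The data of the case with an elementary abelian subgroup of order eight. -/
structure R3 (Y : Sys N A B) where
  z : G
  w : G
  x : G
  k : ℕ
  r : ℕ
  v : ℤ
  q : ℤ
  hz : orderOf z = 2 ^ (k + 1)
  hx : orderOf x = 2 ^ r
  hzL : z ∈ Y.L
  hwL : w ∈ Y.L
  hxS : x ∈ (Y.S : Subgroup G)
  hw2 : w * w = 1
  hwnz : w ∉ zpowers z
  hwz : w * z * w⁻¹ = z⁻¹
  hv : Odd v
  hq : Odd q
  hxz : x * z * x⁻¹ = z ^ v
  hxw : x * w * x⁻¹ = z ^ q * w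
  gen : ∀ s ∈ (Y.S : Subgroup G), ∃ m i δ : ℤ, s = x ^ m * z ^ i * w ^ δ
  disj : ∀ m i δ : ℤ, x ^ m = z ^ i * w ^ δ → x ^ m = 1
  mem_iff : ∀ m : ℤ, x ^ m ∈ N ↔ (Y.e : ℤ) ∣ m
  two_e : 2 * Y.e ∣ 2 ^ r
  der : ∀ g ∈ normalizer ((Y.S : Subgroup G) : Set G), g * z * g⁻¹ ∈ zpowers z
  nfus : ¬ IsConj (x ^ (2 ^ r / 2)) (z ^ 2 ^ k)

namespace R3

variable {Y : Sys N A B} (M : R3 Y)

/-- the central involution of `D` -/
def z0 : G := M.z ^ 2 ^ M.k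

/-- the involution of `⟨x⟩` -/
def t : G := M.x ^ (2 ^ M.r / 2)

theorem not_conj_t : ¬ IsConj M.t M.z0 := M.nfus

theorem r_pos : 1 ≤ M.r := by
  have h := M.two_e
  rcases Nat.eq_zero_or_pos M.r with h0 | h0
  · rw [h0, pow_zero, Nat.dvd_one] at h
    omega
  · exact h0

theorem half_eq : 2 ^ M.r / 2 = 2 ^ (M.r - 1) := by
  have h := M.r_pos
  conv_lhs => rw [show M.r = M.r - 1 + 1 by omega, pow_succ]
  omega

theorem z0_ne_one : M.z0 ≠ 1 := by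
  intro h
  have := orderOf_dvd_of_pow_eq_one h
  rw [M.hz, Nat.pow_dvd_pow_iff_le_right one_lt_two] at this
  omega

theorem orderOf_z0 : orderOf M.z0 = 2 := by
  refine orderOf_eq_prime ?_ M.z0_ne_one
  rw [z0, ← pow_mul, ← pow_succ, ← M.hz, pow_orderOf_eq_one]

theorem orderOf_t : orderOf M.t = 2 := by
  refine orderOf_eq_prime ?_ fun h => ?_
  · rw [t, half_eq, ← pow_mul, ← pow_succ, Nat.sub_add_cancel M.r_pos, ← M.hx, pow_orderOf_eq_one]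
  · have := orderOf_dvd_of_pow_eq_one h
    rw [M.hx, half_eq, Nat.pow_dvd_pow_iff_le_right one_lt_two] at this
    have := M.r_pos
    omega

theorem z_dvd {i : ℤ} : M.z ^ i = 1 ↔ ((2 ^ (M.k + 1) : ℕ) : ℤ) ∣ i := by
  rw [← orderOf_dvd_iff_zpow_eq_one, M.hz]

/-- the only involution of `⟨z⟩` -/
theorem zpow_cases {i : ℤ} (h : M.z ^ i * M.z ^ i = 1) : M.z ^ i = 1 ∨ M.z ^ i = M.z0 := by
  rw [← zpow_add, M.z_dvd, pow_succ, Nat.cast_mul, ← two_mul, mul_comm (2 : ℤ),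
    show ((2 : ℕ) : ℤ) = 2 from rfl] at h
  obtain ⟨c, rfl⟩ : ((2 ^ M.k : ℕ) : ℤ) ∣ i := Int.dvd_of_mul_dvd_mul_right two_ne_zero h
  rcases Int.even_or_odd c with ⟨d, rfl⟩ | ⟨d, rfl⟩
  · exact Or.inl (M.z_dvd.2 ⟨d, by rw [pow_succ]; push_cast; ring⟩)
  · refine Or.inr ?_
    rw [mul_add, mul_one, zpow_add, zpow_natCast,
      M.z_dvd.2 ⟨d, by rw [pow_succ]; push_cast; ring⟩, one_mul]
    rfl

theorem zpow_mem_z (i : ℤ) : M.z ^ i ∈ zpowers M.z := zpow_mem (mem_zpowers _) i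

theorem w_inv : M.w⁻¹ = M.w := inv_eq_of_mul_eq_one_left M.hw2

theorem w_zpow (δ : ℤ) : (M.w ^ δ = 1 ∧ Even δ) ∨ (M.w ^ δ = M.w ∧ Odd δ) := by
  rcases Int.even_or_odd' δ with ⟨d, rfl | rfl⟩
  · exact Or.inl ⟨by rw [zpow_mul, zpow_ofNat, pow_two, M.hw2, one_zpow], even_two_mul d⟩
  · exact Or.inr ⟨by rw [zpow_add, zpow_mul, zpow_ofNat, pow_two, M.hw2, one_zpow, one_mul, zpow_one],
      odd_two_mul_add_one d⟩

theorem x_normalizes : M.x ∈ normalizer (zpowers M.z : Set G) :=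
  ZStarApps.mem_normalizer_of_maps fun a ha => by
    obtain ⟨i, rfl⟩ := mem_zpowers_iff.1 ha
    rw [← conj_zpow, M.hxz, ← zpow_mul]
    exact M.zpow_mem_z _

theorem w_normalizes : M.w ∈ normalizer (zpowers M.z : Set G) :=
  ZStarApps.mem_normalizer_of_maps fun a ha => by
    obtain ⟨i, rfl⟩ := mem_zpowers_iff.1 ha
    rw [← conj_zpow, M.hwz]
    exact zpow_mem (inv_mem (mem_zpowers _)) i

/-- `x` and `w` commute modulo `⟨z⟩` -/
theorem sweep (m δ : ℤ) : ∃ l : ℤ, M.x ^ m * M.w ^ δ * (M.x ^ m)⁻¹ = M.z ^ l * M.w ^ δ := by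
  rcases M.w_zpow δ with ⟨h, -⟩ | ⟨h, -⟩
  · exact ⟨0, by rw [h]; simp⟩
  rw [h]
  have key : ∀ n : ℕ, ∃ l : ℤ, M.x ^ n * M.w * (M.x ^ n)⁻¹ = M.z ^ l * M.w := by
    intro n
    induction n with
    | zero => exact ⟨0, by simp⟩
    | succ n ih =>
      obtain ⟨l, hl⟩ := ih
      refine ⟨M.v * l + M.q, ?_⟩
      calc M.x ^ (n + 1) * M.w * (M.x ^ (n + 1))⁻¹ = M.x * (M.x ^ n * M.w * (M.x ^ n)⁻¹) * M.x⁻¹ := by
            rw [pow_succ']; group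
        _ = (M.x * M.z * M.x⁻¹) ^ l * (M.x * M.w * M.x⁻¹) := by rw [hl, conj_zpow]; group
        _ = M.z ^ (M.v * l + M.q) * M.w := by rw [M.hxz, M.hxw, ← mul_assoc, ← zpow_mul, ← zpow_add]
  have hzm : M.x ^ m ∈ zpowers M.x := zpow_mem (mem_zpowers M.x) m
  obtain ⟨n, hn⟩ := mem_powers_iff_mem_zpowers.2 hzm
  simp only at hn
  rw [← hn]
  exact key n

/-- the `z`-exponent can be moved to the left -/
theorem move {g : G} (hg : g ∈ normalizer (zpowers M.z : Set G)) (i : ℤ) :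
    ∃ l : ℤ, g * M.z ^ i = M.z ^ l * g := by
  have := (mem_normalizer_iff.1 hg (M.z ^ i)).1 (M.zpow_mem_z i)
  obtain ⟨l, hl⟩ := mem_zpowers_iff.1 this
  exact ⟨l, by rw [hl, inv_mul_cancel_right]⟩

/-- the coset of `⟨z⟩` of a product -/
theorem mul_rep (m i δ m' i' δ' : ℤ) :
    ∃ l : ℤ, (M.x ^ m * M.z ^ i * M.w ^ δ) * (M.x ^ m' * M.z ^ i' * M.w ^ δ') =
      M.x ^ (m + m') * M.z ^ l * M.w ^ (δ + δ') := by
  obtain ⟨p, hp⟩ := M.sweep (-m') δ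
  obtain ⟨l₁, hl₁⟩ := M.move (zpow_mem M.w_normalizes δ) i'
  obtain ⟨l₂, hl₂⟩ := M.move (zpow_mem M.x_normalizes (-m')) i
  refine ⟨l₂ + p + l₁, ?_⟩
  calc (M.x ^ m * M.z ^ i * M.w ^ δ) * (M.x ^ m' * M.z ^ i' * M.w ^ δ')
      = M.x ^ (m + m') * ((M.x ^ (-m') * M.z ^ i) * (M.x ^ (-m'))⁻¹) * ((M.x ^ (-m')) * M.w ^ δ * (M.x ^ (-m'))⁻¹) *
          (M.z ^ i' * M.w ^ δ') := by group
    _ = M.x ^ (m + m') * M.z ^ l₂ * M.z ^ p * (M.w ^ δ * M.z ^ i') * M.w ^ δ' := by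
        rw [hl₂, hp]; group
    _ = _ := by
        rw [hl₁]; group

theorem rep_eq_one {m i δ : ℤ} (h : M.x ^ m * M.z ^ i * M.w ^ δ = 1) :
    ((2 ^ M.r : ℕ) : ℤ) ∣ m ∧ Even δ ∧ M.z ^ i = 1 := by
  have h1 : M.x ^ m = 1 := by
    rcases M.w_zpow δ with ⟨e, -⟩ | ⟨e, -⟩
    · refine M.disj m (-i) 0 ?_
      rw [e, mul_one] at h
      rw [zpow_zero, mul_one, zpow_neg]
      exact eq_inv_of_mul_eq_one_left h
    · obtain ⟨l, hl⟩ := M.move M.w_normalizes (-i)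
      refine M.disj m l 1 ?_
      rw [zpow_one, ← hl, zpow_neg]
      rw [e, mul_assoc] at h
      rw [eq_inv_of_mul_eq_one_left h, mul_inv_rev, M.w_inv]
  refine ⟨by rwa [← orderOf_dvd_iff_zpow_eq_one, M.hx] at h1, ?_⟩
  rw [h1, one_mul] at h
  rcases M.w_zpow δ with ⟨e, he⟩ | ⟨e, -⟩ <;> rw [e] at h
  · exact ⟨he, by simpa using h⟩
  · exact absurd (show M.w ∈ zpowers M.z from (eq_inv_of_mul_eq_one_right h) ▸ inv_mem (M.zpow_mem_z i)) M.hwnz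

/-- uniqueness of the exponents of `x` and `w` -/
theorem rep_unique {m i δ m' i' δ' : ℤ}
    (h : M.x ^ m * M.z ^ i * M.w ^ δ = M.x ^ m' * M.z ^ i' * M.w ^ δ') :
    ((2 ^ M.r : ℕ) : ℤ) ∣ m - m' ∧ Even (δ - δ') := by
  obtain ⟨l₁, hl₁⟩ := M.move (zpow_mem M.w_normalizes (δ - δ')) (-i')
  have h1 : M.x ^ (m - m') * M.z ^ (0 : ℤ) * M.w ^ (0 : ℤ) = M.x ^ (-m') * (M.x ^ m * M.z ^ i * M.w ^ δ) *
      (M.z ^ i * M.w ^ δ)⁻¹ := by group
  rw [h] at h1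
  have h2 : M.x ^ (m - m') * M.z ^ (0 : ℤ) * M.w ^ (0 : ℤ) = M.z ^ i' * M.w ^ (δ' - δ) * M.z ^ (-i) := by
    rw [h1]; group
  obtain ⟨l₂, hl₂⟩ := M.move (zpow_mem M.w_normalizes (δ' - δ)) (-i)
  rw [mul_assoc (M.z ^ i'), hl₂, ← mul_assoc, ← zpow_add] at h2
  have h3 : M.x ^ (m - m') * M.z ^ (-(i' + l₂)) * M.w ^ (0 : ℤ) = M.z ^ (i' + l₂) * M.w ^ (δ' - δ) * M.z ^ (-(i' + l₂)) := by
    rw [← h2]; group
  obtain ⟨l₃, hl₃⟩ := M.move (zpow_mem M.w_normalizes (δ' - δ)) (-(i' + l₂))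
  rw [mul_assoc (M.z ^ (i' + l₂)), hl₃, ← mul_assoc, ← zpow_add] at h3
  simp only [zpow_zero, mul_one] at h2 h3
  have hd : M.x ^ (m - m') = 1 := M.disj (m - m') _ _ h2
  rw [hd] at h2
  refine ⟨by rwa [← orderOf_dvd_iff_zpow_eq_one, M.hx] at hd, ?_⟩
  rcases M.w_zpow (δ' - δ) with ⟨-, he⟩ | ⟨e, -⟩
  · rw [Int.even_sub] at he ⊢; tauto
  · rw [e] at h2
    exact absurd (show M.w ∈ zpowers M.z from (eq_inv_of_mul_eq_one_right h2.symm) ▸ inv_mem (M.zpow_mem_z _)) M.hwnz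

theorem z_mem_N (i : ℤ) : M.z ^ i ∈ N := zpow_mem (Y.L_le_N M.hzL) i

theorem w_mem_N (δ : ℤ) : M.w ^ δ ∈ N := zpow_mem (Y.L_le_N M.hwL) δ

theorem exists_rep {y : G} (hy : y ∈ Y.L) :
    ∃ m i δ : ℤ, y = M.x ^ ((Y.e : ℤ) * m) * M.z ^ i * M.w ^ δ := by
  obtain ⟨m, i, δ, rfl⟩ := M.gen y hy.1
  have h : M.x ^ m ∈ N := by
    have := mul_mem (mul_mem hy.2 (M.w_mem_N (-δ))) (M.z_mem_N (-i))
    simpa [mul_assoc] using this
  obtain ⟨c, rfl⟩ := (M.mem_iff m).1 h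
  exact ⟨c, i, δ, rfl⟩

/-- the parities of the exponents: linear characters of `L` -/
theorem exists_char (α γ : ℤ) : ∃ χ : ↥Y.L →* ℤˣ, ∀ (m i δ : ℤ)
    (h : M.x ^ ((Y.e : ℤ) * m) * M.z ^ i * M.w ^ δ ∈ Y.L), χ ⟨_, h⟩ = (-1 : ℤˣ) ^ (α * m + γ * δ) := by
  have hwd : ∀ {m i δ m' i' δ' : ℤ}, M.x ^ ((Y.e : ℤ) * m) * M.z ^ i * M.w ^ δ =
      M.x ^ ((Y.e : ℤ) * m') * M.z ^ i' * M.w ^ δ' → (-1 : ℤˣ) ^ (α * m + γ * δ) = (-1) ^ (α * m' + γ * δ') := by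
    intro m i δ m' i' δ' h
    obtain ⟨hm, hδ⟩ := M.rep_unique h
    have he : ((2 * Y.e : ℕ) : ℤ) ∣ (Y.e : ℤ) * m - (Y.e : ℤ) * m' :=
      (Int.natCast_dvd_natCast.2 M.two_e).trans hm
    rw [← mul_sub, Nat.cast_mul, mul_comm ((2 : ℕ) : ℤ)] at he
    have hm2 : (2 : ℤ) ∣ m - m' := Int.dvd_of_mul_dvd_mul_left (by exact_mod_cast Y.e_pos.ne') he
    rw [← mul_inv_eq_one, ← zpow_neg, ← zpow_add, neg_one_zpow_unit,
      show α * m + γ * δ + -(α * m' + γ * δ') = α * (m - m') + γ * (δ - δ') by ring]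
    exact ((even_iff_two_dvd.2 hm2).mul_left α).add (hδ.mul_left γ)
  let f : ↥Y.L → ℤˣ := fun y => (-1) ^ (α * (M.exists_rep y.2).choose +
    γ * (M.exists_rep y.2).choose_spec.choose_spec.choose)
  have hf : ∀ (m i δ : ℤ) (h : M.x ^ ((Y.e : ℤ) * m) * M.z ^ i * M.w ^ δ ∈ Y.L),
      f ⟨_, h⟩ = (-1 : ℤˣ) ^ (α * m + γ * δ) := fun m i δ h =>
    hwd (M.exists_rep h).choose_spec.choose_spec.choose_spec.symm
  refine ⟨MonoidHom.mk' f ?_, hf⟩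
  rintro ⟨y, hy⟩ ⟨y', hy'⟩
  obtain ⟨m, i, δ, rfl⟩ := M.exists_rep hy
  obtain ⟨m', i', δ', rfl⟩ := M.exists_rep hy'
  obtain ⟨l, hl⟩ := M.mul_rep ((Y.e : ℤ) * m) i δ ((Y.e : ℤ) * m') i' δ'
  rw [← mul_add] at hl
  have hmem := mul_mem hy hy'
  rw [hl] at hmem
  rw [hf, hf, show (⟨_, hy⟩ : ↥Y.L) * ⟨_, hy'⟩ = ⟨_, hmem⟩ from Subtype.ext hl, hf, ← zpow_add]
  congr 1
  ring

theorem pow_rep (m i δ : ℤ) : ∀ n : ℕ, ∃ l : ℤ,
    (M.x ^ m * M.z ^ i * M.w ^ δ) ^ n = M.x ^ ((n : ℤ) * m) * M.z ^ l * M.w ^ ((n : ℤ) * δ)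
  | 0 => ⟨0, by simp⟩
  | n + 1 => by
    obtain ⟨l, hl⟩ := pow_rep m i δ n
    obtain ⟨l', hl'⟩ := M.mul_rep ((n : ℤ) * m) l ((n : ℤ) * δ) m i δ
    exact ⟨l', by rw [pow_succ, hl, hl']; push_cast; ring_nf⟩

theorem t_mem_L : M.t ∈ Y.L := by
  refine ⟨pow_mem M.hxS _, ?_⟩
  have h : (Y.e : ℤ) ∣ ((2 ^ M.r / 2 : ℕ) : ℤ) := by
    rw [Int.natCast_dvd_natCast]
    obtain ⟨c, hc⟩ := M.two_e
    exact ⟨c, by rw [hc, mul_assoc, Nat.mul_div_cancel_left _ two_pos]⟩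
  have := (M.mem_iff _).2 h
  rwa [zpow_natCast] at this

theorem z0_mem_L : M.z0 ∈ Y.L := pow_mem M.hzL _

/-- the case where `L` induces a cyclic group of order at least four on `D` -/
theorem false_of_four_dvd {c : ℕ} (hc : 2 ^ M.r = Y.e * (4 * c)) : False := by
  obtain ⟨χ, hχ⟩ := M.exists_char 1 0
  set f := 4 * c with hf
  have hxe : M.x ^ Y.e ∈ N := by
    have := (M.mem_iff Y.e).2 dvd_rfl
    rwa [zpow_natCast] at this
  obtain ⟨k, hk⟩ : ∃ k, f = 2 ^ k := by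
    obtain ⟨k, -, hk⟩ := (Nat.dvd_prime_pow Nat.prime_two).1 (Dvd.intro_left Y.e hc.symm : f ∣ 2 ^ M.r)
    exact ⟨k, hk⟩
  have ho : orderOf (M.x ^ Y.e) = 2 ^ k := by
    rw [orderOf_pow' _ Y.e_pos.ne', M.hx, hc, Nat.gcd_eq_right (Dvd.intro _ rfl),
      Nat.mul_div_cancel_left _ Y.e_pos, hk]
  have hfh : f / 2 = 2 * c := by rw [hf]; omega
  have hR : 2 ^ M.r / 2 = Y.e * (f / 2) := by
    rw [hc, hfh, hf, show Y.e * (4 * c) = 2 * (Y.e * (2 * c)) by ring, Nat.mul_div_cancel_left _ two_pos]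
  -- the power `f / 2` of a representative
  have key : ∀ (m i δ : ℤ), ∃ l : ℤ, (M.x ^ ((Y.e : ℤ) * m) * M.z ^ i * M.w ^ δ) ^ (f / 2) =
      M.x ^ (((2 ^ M.r / 2 : ℕ) : ℤ) * m) * M.z ^ l := by
    intro m i δ
    obtain ⟨l, hl⟩ := M.pow_rep ((Y.e : ℤ) * m) i δ (f / 2)
    refine ⟨l, hl.trans ?_⟩
    have hw1 : M.w ^ (((f / 2 : ℕ) : ℤ) * δ) = 1 := by
      rw [hfh, Nat.cast_mul, mul_assoc, zpow_mul, show ((2 : ℕ) : ℤ) = 2 from rfl, zpow_ofNat, pow_two, M.hw2,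
        one_zpow]
    rw [hw1, mul_one, hR]
    push_cast
    ring_nf
  refine Y.false_of_char χ hxe ho (fun g hg h h1 => ?_) fun g hg l hl h => ?_
  · obtain ⟨m, i, δ, hy⟩ := M.exists_rep h
    have hm : Even m := by
      have h2 : χ ⟨_, h⟩ = (-1 : ℤˣ) ^ (1 * m + 0 * δ) := by
        rw [show (⟨_, h⟩ : ↥Y.L) = ⟨_, hy ▸ h⟩ from Subtype.ext hy, hχ]
      rw [h1, eq_comm, neg_one_zpow_unit] at h2
      simpa using h2
    obtain ⟨l, hl⟩ := key m i δ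
    rw [← hy] at hl
    obtain ⟨d, rfl⟩ := hm
    rw [show ((2 ^ M.r / 2 : ℕ) : ℤ) * (d + d) = ((2 ^ M.r : ℕ) : ℤ) * d by
      rw [hR, hc, hfh, hf]; push_cast; ring, zpow_mul, zpow_natCast, ← M.hx, pow_orderOf_eq_one, one_zpow,
      one_mul] at hl
    have hconj : IsConj M.t (M.z ^ l) := by
      refine isConj_iff.2 ⟨g⁻¹, ?_⟩
      rw [← hl, inv_inv, t, hR, pow_mul,
        show g⁻¹ * M.x ^ Y.e * g = MulAut.conj g⁻¹ (M.x ^ Y.e) by simp, ← map_pow]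
      simp
    have h2 : M.z ^ l * M.z ^ l = 1 := by
      rw [← pow_two, ← orderOf_dvd_iff_pow_eq_one]
      obtain ⟨u, hu⟩ := isConj_iff.1 hconj
      rw [← hu, ← MulAut.conj_apply, MulEquiv.orderOf_eq, M.orderOf_t]
    rcases M.zpow_cases h2 with e | e
    · rw [e, isConj_one_left] at hconj
      have := M.orderOf_t
      rw [hconj, orderOf_one] at this
      omega
    · exact M.not_conj_t (e ▸ hconj)
  · obtain ⟨m, i, δ, hy⟩ := M.exists_rep h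
    rw [show (⟨_, h⟩ : ↥Y.L) = ⟨_, hy ▸ h⟩ from Subtype.ext hy, hχ, neg_one_zpow_unit]
    obtain ⟨j, hj⟩ := key m i δ
    rw [← hy] at hj
    have h1 : (g⁻¹ * (M.x ^ Y.e) ^ l * g) ^ (f / 2) = 1 := by
      rw [show g⁻¹ * (M.x ^ Y.e) ^ l * g = MulAut.conj g⁻¹ ((M.x ^ Y.e) ^ l) by simp, ← map_pow, ← pow_mul]
      obtain ⟨d, rfl⟩ := hl
      rw [show (d + d) * (f / 2) = 2 ^ k * d by rw [← hk, hfh, hf]; ring, pow_mul, ← ho, pow_orderOf_eq_one,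
        one_pow, map_one]
    rw [h1] at hj
    obtain ⟨hdm, -⟩ := M.rep_eq_one (m := ((2 ^ M.r / 2 : ℕ) : ℤ) * m) (i := j) (δ := 0) (by rw [zpow_zero, mul_one]; exact hj.symm)
    have hR2 : ((2 ^ M.r : ℕ) : ℤ) = ((2 ^ M.r / 2 : ℕ) : ℤ) * 2 := by
      rw [hR, hc, hfh, hf]; push_cast; ring
    rw [hR2] at hdm
    have hne : ((2 ^ M.r / 2 : ℕ) : ℤ) ≠ 0 := by
      rw [M.half_eq]
      exact_mod_cast (Nat.two_pow_pos (M.r - 1)).ne'
    simpa [even_iff_two_dvd] using Int.dvd_of_mul_dvd_mul_left hne hdm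

/-- the involutions of `L` when `|L : D| = 2` -/
theorem invol_cases (h2 : 2 ^ M.r = 2 * Y.e) {y : G} (hy : y ∈ Y.L) (hy2 : orderOf y = 2) :
    y = M.z0 ∨ (∃ i : ℤ, y = M.z ^ i * M.w) ∨ (∃ i : ℤ, y = M.t * M.z ^ i) ∨
      ∃ i : ℤ, y = M.t * M.z ^ i * M.w := by
  obtain ⟨m, i, δ, rfl⟩ := M.exists_rep hy
  have hx : M.x ^ ((Y.e : ℤ) * m) = 1 ∨ M.x ^ ((Y.e : ℤ) * m) = M.t := by
    rcases Int.even_or_odd' m with ⟨d, rfl | rfl⟩
    · refine Or.inl ?_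
      rw [show (Y.e : ℤ) * (2 * d) = ((2 ^ M.r : ℕ) : ℤ) * d by rw [h2]; push_cast; ring, zpow_mul, zpow_natCast,
        ← M.hx, pow_orderOf_eq_one, one_zpow]
    · refine Or.inr ?_
      rw [show (Y.e : ℤ) * (2 * d + 1) = ((2 ^ M.r : ℕ) : ℤ) * d + (Y.e : ℤ) by rw [h2]; push_cast; ring, zpow_add,
        zpow_mul, zpow_natCast, ← M.hx, pow_orderOf_eq_one, one_zpow, one_mul, zpow_natCast, t, h2,
        Nat.mul_div_cancel_left _ two_pos]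
  rcases hx with hx | hx <;> rcases M.w_zpow δ with ⟨hw, -⟩ | ⟨hw, -⟩ <;> rw [hx, hw] at hy2 ⊢
  · rw [one_mul, mul_one] at hy2 ⊢
    refine Or.inl ((M.zpow_cases ?_).resolve_left fun h => ?_)
    · rw [← pow_two, ← hy2, pow_orderOf_eq_one]
    · rw [h, orderOf_one] at hy2
      omega
  · exact Or.inr (Or.inl ⟨i, by rw [one_mul]⟩)
  · exact Or.inr (Or.inr (Or.inl ⟨i, by rw [mul_one]⟩))
  · exact Or.inr (Or.inr (Or.inr ⟨i, rfl⟩))

/-- a class that is closed under the conjugations by `z` and `x` is everything -/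
theorem all_of_one (P : ℤ → Prop) {i₀ : ℤ} (h₀ : P i₀) (hstep : ∀ i, P i → P (i + 2))
    (hback : ∀ i, P i → P (i - 2)) (hflip : ∀ i, P i → P (M.v * i + M.q)) (i : ℤ) : P i := by
  have hev : ∀ (j : ℤ), P j → ∀ d : ℤ, P (j + 2 * d) := by
    intro j hj d
    induction d using Int.induction_on with
    | zero => simpa using hj
    | succ n ih =>
      have h := hstep _ ih
      rwa [show j + 2 * ((n : ℤ) + 1) = j + 2 * (n : ℤ) + 2 by ring]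
    | pred n ih =>
      have h := hback _ ih
      rwa [show j + 2 * (-(n : ℤ) - 1) = j + 2 * -(n : ℤ) - 2 by ring]
  rcases Int.even_or_odd (i - i₀) with ⟨d, hd⟩ | ⟨d, hd⟩
  · simpa [show i = i₀ + 2 * d by omega] using hev i₀ h₀ d
  · obtain ⟨e, he⟩ := M.hv
    obtain ⟨f, hf⟩ := M.hq
    have := hev _ (hflip i₀ h₀) (d - e * i₀ - f)
    rwa [show i = M.v * i₀ + M.q + 2 * (d - e * i₀ - f) by rw [he, hf]; linarith [hd]]

theorem x_conj_t : M.x * M.t * M.x⁻¹ = M.t := by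
  rw [t, ((Commute.refl M.x).pow_right _).eq, mul_inv_cancel_right]

theorem x_conj_refl (i : ℤ) : M.x * (M.z ^ i * M.w) * M.x⁻¹ = M.z ^ (M.v * i + M.q) * M.w := by
  calc M.x * (M.z ^ i * M.w) * M.x⁻¹ = (M.x * M.z * M.x⁻¹) ^ i * (M.x * M.w * M.x⁻¹) := by
        rw [conj_zpow]; group
    _ = _ := by rw [M.hxz, M.hxw, ← mul_assoc, ← zpow_mul, ← zpow_add]

theorem wz_zpow (i : ℤ) : M.w * M.z ^ i = M.z ^ (-i) * M.w := by
  rw [zpow_neg, ← inv_zpow, ← M.hwz, conj_zpow, inv_mul_cancel_right]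

theorem z_conj_refl (j i : ℤ) : M.z ^ j * (M.z ^ i * M.w) * (M.z ^ j)⁻¹ = M.z ^ (i + 2 * j) * M.w := by
  rw [← mul_assoc, ← zpow_add, mul_assoc, ← zpow_neg, M.wz_zpow, ← mul_assoc, ← zpow_add]
  congr 2
  ring

/-- one reflection conjugate to an element makes all of them conjugate to it -/
theorem all_refl {p : G} {i₀ : ℤ} (h₀ : IsConj p (M.z ^ i₀ * M.w)) (i : ℤ) : IsConj p (M.z ^ i * M.w) := by
  refine M.all_of_one (fun i => IsConj p (M.z ^ i * M.w)) h₀ (fun i hi => ?_) (fun i hi => ?_) (fun i hi => ?_) i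
  · exact hi.trans (isConj_iff.2 ⟨M.z ^ (1 : ℤ), by rw [M.z_conj_refl]; congr 2⟩)
  · exact hi.trans (isConj_iff.2 ⟨M.z ^ (-1 : ℤ), by rw [M.z_conj_refl]; congr 2⟩)
  · exact hi.trans (isConj_iff.2 ⟨M.x, M.x_conj_refl i⟩)

/-- an involution `t·reflection` makes `t` central -/
theorem t_central_of {i : ℤ} (h : (M.t * M.z ^ i * M.w) * (M.t * M.z ^ i * M.w) = 1) :
    Commute M.t M.z ∧ Commute M.t M.w := by
  have ht : M.t * M.t = 1 := by rw [← pow_two, ← M.orderOf_t, pow_orderOf_eq_one]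
  have hr : ∀ j : ℤ, (M.z ^ j * M.w) * (M.z ^ j * M.w) = 1 := fun j => by
    rw [mul_assoc, ← mul_assoc M.w, M.wz_zpow, mul_assoc, M.hw2, mul_one, ← zpow_add, add_neg_cancel, zpow_zero]
  have hcomm : ∀ j : ℤ, (M.t * (M.z ^ j * M.w)) * (M.t * (M.z ^ j * M.w)) = 1 → Commute M.t (M.z ^ j * M.w) := by
    intro j hj
    have := inv_eq_of_mul_eq_one_left hj
    rw [mul_inv_rev, inv_eq_of_mul_eq_one_left ht, inv_eq_of_mul_eq_one_left (hr j)] at this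
    exact this.symm
  have c1 : Commute M.t (M.z ^ i * M.w) := hcomm i (by simpa only [mul_assoc] using h)
  have c2 : Commute M.t (M.z ^ (M.v * i + M.q) * M.w) := by
    have h3 := c1.map (MulAut.conj M.x).toMonoidHom
    simp only [MulEquiv.coe_toMonoidHom, MulAut.conj_apply] at h3
    rwa [M.x_conj_t, M.x_conj_refl] at h3
  have c3 : Commute M.t (M.z ^ (i - (M.v * i + M.q))) := by
    have := c1.mul_right c2
    rwa [mul_assoc, ← mul_assoc M.w, M.wz_zpow, mul_assoc, M.hw2, mul_one, ← zpow_add, ← sub_eq_add_neg] at this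
  have hodd : Odd (i - (M.v * i + M.q)) := by
    obtain ⟨e, he⟩ := M.hv
    obtain ⟨f, hf⟩ := M.hq
    exact ⟨-e * i - f - 1, by rw [he, hf]; ring⟩
  have cz : Commute M.t M.z := by
    have hco : IsCoprime (i - (M.v * i + M.q)) ((2 ^ (M.k + 1) : ℕ) : ℤ) := by
      push_cast
      refine IsCoprime.pow_right ?_
      obtain ⟨d, hd⟩ := hodd
      exact ⟨1, -d, by rw [hd]; ring⟩
    obtain ⟨u, w', huw⟩ := hco
    have h4 := c3.zpow_right u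
    rwa [← zpow_mul, show (i - (M.v * i + M.q)) * u = 1 + ((2 ^ (M.k + 1) : ℕ) : ℤ) * (-w') by linarith,
      zpow_add, zpow_mul, zpow_natCast, ← M.hz, pow_orderOf_eq_one, one_zpow, mul_one, zpow_one] at h4
  refine ⟨cz, ?_⟩
  have := (cz.zpow_right (-i)).mul_right c1
  rwa [← mul_assoc, ← zpow_add, neg_add_cancel, zpow_zero, one_mul] at this

/-- the case `|L : D| = 2` -/
theorem false_of_two (h2 : 2 ^ M.r = 2 * Y.e) : False := by
  have ht2 : orderOf M.t = 2 ^ 1 := by rw [M.orderOf_t, pow_one]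
  have ht1 : M.t ≠ 1 := fun h => by
    have := M.orderOf_t
    rw [h, orderOf_one] at this
    omega
  have hinv : ∀ {g : G}, orderOf (g⁻¹ * M.t * g) = 2 := fun {g} => by
    rw [show g⁻¹ * M.t * g = MulAut.conj g⁻¹ M.t by simp, MulEquiv.orderOf_eq, M.orderOf_t]
  have hxt : M.x ^ ((Y.e : ℤ) * 1) = M.t := by
    rw [mul_one, zpow_natCast, t, h2, Nat.mul_div_cancel_left _ two_pos]
  have heven : ∀ (χ : ↥Y.L →* ℤˣ) (g : G), ∀ l : ℕ, Even l → ∀ h : g⁻¹ * M.t ^ l * g ∈ Y.L,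
      χ ⟨_, h⟩ = 1 := by
    intro χ g l hl h
    obtain ⟨d, rfl⟩ := hl
    have e : g⁻¹ * M.t ^ (d + d) * g = 1 := by
      rw [← two_mul, pow_mul, ← M.orderOf_t, pow_orderOf_eq_one, one_pow]
      group
    rw [show (⟨_, h⟩ : ↥Y.L) = 1 from Subtype.ext e, map_one]
  -- the value of a character on a given shape
  have hval : ∀ {χ : ↥Y.L →* ℤˣ} {α γ : ℤ}, (∀ (m i δ : ℤ)
      (h : M.x ^ ((Y.e : ℤ) * m) * M.z ^ i * M.w ^ δ ∈ Y.L), χ ⟨_, h⟩ = (-1 : ℤˣ) ^ (α * m + γ * δ)) →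
      ∀ {y : G} (hy : y ∈ Y.L) (m i δ : ℤ), y = M.x ^ ((Y.e : ℤ) * m) * M.z ^ i * M.w ^ δ →
        χ ⟨y, hy⟩ = (-1 : ℤˣ) ^ (α * m + γ * δ) := by
    intro χ α γ hχ y hy m i δ e
    subst e
    exact hχ m i δ hy
  -- all reflections are conjugate to `t`
  have hrefl : ∀ i : ℤ, IsConj M.t (M.z ^ i * M.w) := by
    by_contra hno
    push Not at hno
    obtain ⟨j, hj⟩ := hno
    obtain ⟨χ, hχ⟩ := M.exists_char 1 0
    refine Y.false_of_char χ M.t_mem_L.2 ht2 (fun g hg h h1 => ?_) fun g _ => heven χ g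
    have hc : IsConj M.t (g⁻¹ * M.t * g) := isConj_iff.2 ⟨g⁻¹, by simp⟩
    rcases M.invol_cases h2 h hinv with e | ⟨i, e⟩ | ⟨i, e⟩ | ⟨i, e⟩
    · exact M.not_conj_t (e ▸ hc)
    · exact hj (M.all_refl (e ▸ hc) j)
    · rw [hval hχ h 1 i 0 (by rw [hxt, zpow_zero, mul_one, e]), neg_one_zpow_unit] at h1
      exact Int.not_even_one (by simpa using h1)
    · rw [hval hχ h 1 i 1 (by rw [hxt, zpow_one, e]), neg_one_zpow_unit] at h1
      exact Int.not_even_one (by simpa using h1)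
  -- the central involution has another conjugate in `L`
  obtain ⟨y, hyL, hyne, hyc⟩ := Y.exists_conj_ne M.z0_mem_L M.orderOf_z0
  have hy2 : orderOf y = 2 := by
    obtain ⟨g, hg⟩ := isConj_iff.1 hyc
    rw [← hg, ← MulAut.conj_apply, MulEquiv.orderOf_eq, M.orderOf_z0]
  -- conjugates `t·reflection` of `z0` or `t`
  have hall : ∀ {p : G} {i₀ : ℤ}, IsConj p (M.t * M.z ^ i₀ * M.w) →
      (M.t * M.z ^ i₀ * M.w) * (M.t * M.z ^ i₀ * M.w) = 1 → ∀ i : ℤ, IsConj p (M.t * M.z ^ i * M.w) := by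
    intro p i₀ hp hsq i
    obtain ⟨cz, -⟩ := M.t_central_of hsq
    have hz : ∀ j i : ℤ, M.z ^ j * (M.t * M.z ^ i * M.w) * (M.z ^ j)⁻¹ = M.t * M.z ^ (i + 2 * j) * M.w := by
      intro j i
      calc M.z ^ j * (M.t * M.z ^ i * M.w) * (M.z ^ j)⁻¹
          = (M.z ^ j * M.t * (M.z ^ j)⁻¹) * (M.z ^ j * (M.z ^ i * M.w) * (M.z ^ j)⁻¹) := by group
        _ = _ := by rw [M.z_conj_refl, ((cz.zpow_right j).symm).eq, mul_inv_cancel_right, ← mul_assoc]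
    refine M.all_of_one (fun i => IsConj p (M.t * M.z ^ i * M.w)) hp (fun i hi => ?_) (fun i hi => ?_)
      (fun i hi => ?_) i
    · exact hi.trans (isConj_iff.2 ⟨M.z ^ (1 : ℤ), by rw [hz]; congr 3⟩)
    · exact hi.trans (isConj_iff.2 ⟨M.z ^ (-1 : ℤ), by rw [hz]; congr 3⟩)
    · refine hi.trans (isConj_iff.2 ⟨M.x, ?_⟩)
      calc M.x * (M.t * M.z ^ i * M.w) * M.x⁻¹ = (M.x * M.t * M.x⁻¹) * (M.x * (M.z ^ i * M.w) * M.x⁻¹) := by group
        _ = _ := by rw [M.x_conj_t, M.x_conj_refl, ← mul_assoc]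
  have hsq : ∀ {y : G}, orderOf y = 2 → y * y = 1 := fun h => by rw [← pow_two, ← h, pow_orderOf_eq_one]
  have key : ∃ i₀ : ℤ, IsConj M.z0 (M.t * M.z ^ i₀ * M.w) ∧
      (M.t * M.z ^ i₀ * M.w) * (M.t * M.z ^ i₀ * M.w) = 1 ∨
      IsConj M.z0 (M.t * M.z ^ i₀) ∧ M.t * M.z ^ i₀ ≠ M.z0 ∧ (M.t * M.z ^ i₀) * (M.t * M.z ^ i₀) = 1 := by
    rcases M.invol_cases h2 hyL hy2 with e | ⟨i, e⟩ | ⟨i, e⟩ | ⟨i, e⟩
    · exact absurd e hyne
    · exact absurd ((hrefl i).trans (e ▸ hyc).symm) M.not_conj_t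
    · subst e; exact ⟨i, Or.inr ⟨hyc, hyne, hsq hy2⟩⟩
    · subst e; exact ⟨i, Or.inl ⟨hyc, hsq hy2⟩⟩
  obtain ⟨χ, hχ⟩ := M.exists_char 1 1
  refine Y.false_of_char χ M.t_mem_L.2 ht2 (fun g hg h h1 => ?_) fun g _ => heven χ g
  have hc : IsConj M.t (g⁻¹ * M.t * g) := isConj_iff.2 ⟨g⁻¹, by simp⟩
  rcases M.invol_cases h2 h hinv with e | ⟨i, e⟩ | ⟨i, e⟩ | ⟨i, e⟩
  · exact M.not_conj_t (e ▸ hc)
  · rw [hval hχ h 0 i 1 (by simp [e]), neg_one_zpow_unit] at h1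
    exact Int.not_even_one (by simpa using h1)
  · rw [hval hχ h 1 i 0 (by rw [hxt, zpow_zero, mul_one, e]), neg_one_zpow_unit] at h1
    exact Int.not_even_one (by simpa using h1)
  · -- `t·reflection` conjugate to `t`
    have hi2 : (M.t * M.z ^ i * M.w) * (M.t * M.z ^ i * M.w) = 1 := e ▸ hsq hinv
    have hallt := hall (e ▸ hc) hi2
    obtain ⟨cz, cw⟩ := M.t_central_of hi2
    obtain ⟨i₀, ⟨hz0, -⟩ | ⟨hz0, hne, hi₀⟩⟩ := key
    · exact M.not_conj_t ((hallt i₀).trans hz0.symm)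
    -- `z0` and `t z0` are central in the Sylow group and not fused there
    have hz1 : M.z ^ i₀ = 1 ∨ M.z ^ i₀ = M.z0 := M.zpow_cases (by
      have ht : M.t * M.t = 1 := hsq M.orderOf_t
      rwa [mul_assoc, ← mul_assoc (M.z ^ i₀), ((cz.zpow_right i₀).symm).eq, ← mul_assoc, ← mul_assoc, ht,
        one_mul] at hi₀)
    rcases hz1 with hz1 | hz1
    · rw [hz1, mul_one] at hz0
      exact M.not_conj_t hz0.symm
    rw [hz1] at hz0 hne
    have hzx : Commute M.x M.z0 := by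
      have h3 : M.x * M.z0 * M.x⁻¹ = M.z ^ (((2 ^ M.k : ℕ) : ℤ) * M.v) := by
        rw [z0, ← conj_pow, M.hxz, ← zpow_natCast, ← zpow_mul, mul_comm]
      have h4 : M.x * M.z0 * M.x⁻¹ = M.z0 := by
        obtain ⟨d, hd⟩ := M.hv
        rw [h3, hd, mul_add, mul_one, zpow_add, ← mul_assoc,
          show ((2 ^ M.k : ℕ) : ℤ) * 2 = ((2 ^ (M.k + 1) : ℕ) : ℤ) by push_cast; ring, zpow_mul, zpow_natCast,
          ← M.hz, pow_orderOf_eq_one, one_zpow, one_mul, zpow_natCast]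
        rfl
      exact mul_inv_eq_iff_eq_mul.1 h4
    have hwz : Commute M.w M.z0 := by
      refine mul_inv_eq_iff_eq_mul.1 ?_
      show M.w * M.z ^ 2 ^ M.k * M.w⁻¹ = M.z0
      rw [← conj_pow, M.hwz, inv_pow]
      exact inv_eq_of_mul_eq_one_left (hsq M.orderOf_z0)
    have hzz : Commute M.z M.z0 := (Commute.refl M.z).pow_right _
    have hxt' : Commute M.x M.t := (Commute.refl M.x).pow_right _
    have hcen : ∀ {p : G}, Commute M.x p → Commute M.z p → Commute M.w p →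
        (Y.S : Subgroup G) ≤ centralizer ({p} : Set G) := by
      intro p h1 h2 h3 s hs
      obtain ⟨m, i, δ, rfl⟩ := M.gen s hs
      exact mem_centralizer_singleton_iff.2 (((h1.zpow_left m).mul_left (h2.zpow_left i)).mul_left (h3.zpow_left δ)).eq
    obtain ⟨g', hg'⟩ := isConj_iff.1 hz0
    obtain ⟨n, hn, hn'⟩ := Transfer.burnside_fusion_set Y.S ({M.z0} : Set G) ({M.t * M.z0} : Set G)
      ((hcen hzx hzz hwz).trans (centralizer_le_normalizer _)) ((hcen (hxt'.mul_right hzx) (cz.symm.mul_right hzz) (cw.symm.mul_right hwz)).trans (centralizer_le_normalizer _)) g'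
      (by simpa using hg')
    have hn2 : n * M.z0 * n⁻¹ = M.t * M.z0 := by simpa using hn'
    obtain ⟨l, hl⟩ := mem_zpowers_iff.1 (M.der n hn)
    have h5 : (M.z ^ l) ^ 2 ^ M.k = M.t * M.z0 := by rw [hl, conj_pow]; exact hn2
    rw [← zpow_natCast, ← zpow_mul] at h5
    rcases M.zpow_cases (i := l * ((2 ^ M.k : ℕ) : ℤ)) (by
      rw [h5, ← hn2, show n * M.z0 * n⁻¹ * (n * M.z0 * n⁻¹) = n * (M.z0 * M.z0) * n⁻¹ by group, hsq M.orderOf_z0]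
      group) with e6 | e6
    · rw [e6] at h5
      exact M.not_conj_t (by rw [eq_inv_of_mul_eq_one_left h5.symm, inv_eq_of_mul_eq_one_left (hsq M.orderOf_z0)])
    · exact hne (h5.symm.trans e6)

include M in
theorem contra : False := by
  obtain ⟨d, hd⟩ := M.two_e
  rcases Nat.even_or_odd d with ⟨c, hc⟩ | hodd
  · exact M.false_of_four_dvd (c := c) (by rw [hd, hc]; ring)
  · obtain ⟨k, -, hk⟩ := (Nat.dvd_prime_pow Nat.prime_two).1 (Dvd.intro_left _ hd.symm : d ∣ 2 ^ M.r)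
    rcases k with _ | k
    · exact M.false_of_two (by rw [hd, hk, pow_zero, mul_one])
    · exact absurd (hk ▸ hodd) (Nat.not_odd_iff_even.2 ((Nat.even_pow).2 ⟨even_two, Nat.succ_ne_zero k⟩))

end R3

end Cfsg.Lib.CyclicZFactor
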